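import Mathlib.RingTheory.IntegralClosure.IntegrallyClosed
import Mathlib.FieldTheory.IsAlgClosed.AlgebraicClosure
import Mathlib.FieldTheory.Normal.Closure
import Mathlib.FieldTheory.SeparableDegree
import Mathlib.RingTheory.Trace.Basic
import Mathlib.RingTheory.Discriminant
import Mathlib.RingTheory.Ideal.GoingUp
import Mathlib.LinearAlgebra.LinearIndependent.Lemmas
import Groth.Agent.H80.DiscEtale

/-!
A normal domain, the integral closure in a finite extension of degree `n`, and `n` distinct
geometric points over one point.
-/

universe u v w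

open Polynomial Module

namespace Groth.Agent.H80.PointCount

theorem exists_lift_domain {R : Type u} {S : Type v} [CommRing R] [CommRing S] [IsDomain R]
    [IsDomain S] (f : R →+* S) (hf : f.IsIntegral) (hinj : Function.Injective f)
    {Ω : Type w} [Field Ω] [IsAlgClosed Ω] (σ : R →+* Ω) (hσ : Function.Injective σ) :
    ∃ τ : S →+* Ω, τ.comp f = σ := by
  letI := f.toAlgebra
  letI := σ.toAlgebra
  haveI : FaithfulSMul R S := (faithfulSMul_iff_algebraMap_injective _ _).2 hinj
  haveI : FaithfulSMul R Ω := (faithfulSMul_iff_algebraMap_injective _ _).2 hσ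
  haveI : Algebra.IsIntegral R S := ⟨hf⟩
  let l : S →ₐ[R] Ω := IsAlgClosed.lift
  exact ⟨l.toRingHom, RingHom.ext l.commutes⟩

/-- Homomorphisms to an algebraically closed field extend along injective integral extensions of
domains. -/
theorem exists_extension {R : Type u} {S : Type v} [CommRing R] [CommRing S] [IsDomain S]
    [Algebra R S] [Algebra.IsIntegral R S] (hinj : Function.Injective (algebraMap R S))
    {Ω : Type w} [Field Ω] [IsAlgClosed Ω] (σ : R →+* Ω) :
    ∃ τ : S →+* Ω, τ.comp (algebraMap R S) = σ := by
  haveI : (RingHom.ker σ).IsPrime := RingHom.ker_isPrime σ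
  obtain ⟨Q, -, hQ, hQc⟩ := Ideal.exists_ideal_over_prime_of_isIntegral (RingHom.ker σ) (⊥ : Ideal S)
    (by rw [Ideal.comap_bot_of_injective _ hinj]; exact bot_le)
  haveI := hQ
  let f : R ⧸ RingHom.ker σ →+* S ⧸ Q := Ideal.quotientMap Q (algebraMap R S) hQc.ge
  have hint : f.IsIntegral := fun x => by
    obtain ⟨y, rfl⟩ := Ideal.Quotient.mk_surjective x
    obtain ⟨p, hp, hp0⟩ := Algebra.IsIntegral.isIntegral (R := R) y
    refine ⟨p.map (Ideal.Quotient.mk _), hp.map _, ?_⟩
    rw [eval₂_map]
    have := congrArg (Ideal.Quotient.mk Q) hp0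
    rw [hom_eval₂, map_zero] at this
    exact this
  obtain ⟨l, hl⟩ := exists_lift_domain f hint (Ideal.quotientMap_injective' hQc.le)
    σ.kerLift σ.kerLift_injective
  refine ⟨l.comp (Ideal.Quotient.mk Q), RingHom.ext fun r => ?_⟩
  exact (DFunLike.congr_fun hl (Ideal.Quotient.mk _ r)).trans rfl

variable {A : Type u} [CommRing A] [IsDomain A] [IsIntegrallyClosed A]
  {K : Type u} [Field K] [Algebra A K] [IsFractionRing A K]
  {N : Type u} [Field N] [Algebra K N] [Algebra A N] [IsScalarTower A K N]
  {Ω : Type w} [Field Ω] (φ : A →+* Ω)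

/-- On elements fixed by `Aut(N/K)` all extensions of `φ` agree. -/
theorem eq_of_fixed [Normal K N] (x : integralClosure A N) (hx : ∀ g : N ≃ₐ[K] N, g x = (x : N))
    (σ τ : integralClosure A N →+* Ω) (hσ : σ.comp (algebraMap A _) = φ)
    (hτ : τ.comp (algebraMap A _) = φ) : σ x = τ x := by
  classical
  have hxi : IsIntegral K (x : N) := x.2.tower_top
  let P := minpoly K (x : N)
  have hroots : ∀ y ∈ (P.map (algebraMap K N)).roots, y = (x : N) := by
    intro y hy
    rw [mem_roots', IsRoot.def, eval_map_algebraMap] at hy
    have := minpoly.eq_of_irreducible_of_monic (minpoly.irreducible hxi) hy.2 (minpoly.monic hxi)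
    obtain ⟨g, hg⟩ := (Normal.minpoly_eq_iff_mem_orbit N).1 this.symm
    exact hg.symm.trans (hx g)
  have hs : (P.map (algebraMap K N)).Splits := Normal.splits ‹_› (x : N)
  let m := (P.map (algebraMap K N)).roots.card
  have hP : P.map (algebraMap K N) = (X - C (x : N)) ^ m := by
    conv_lhs => rw [hs.eq_prod_roots_of_monic ((minpoly.monic hxi).map _),
      Multiset.eq_replicate_card.2 hroots]
    rw [Multiset.map_replicate, Multiset.prod_replicate]
  have hQ : (minpoly A (x : N)).map (algebraMap A N) = (X - C (x : N)) ^ m := by
    rw [← hP, IsScalarTower.algebraMap_eq A K N, ← Polynomial.map_map,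
      ← minpoly.isIntegrallyClosed_eq_field_fractions' K x.2]
  have hC : (minpoly A (x : N)).map (algebraMap A (integralClosure A N)) = (X - C x) ^ m := by
    apply Polynomial.map_injective (integralClosure A N).val.toRingHom Subtype.val_injective
    rw [Polynomial.map_map, Polynomial.map_pow, Polynomial.map_sub, map_X, map_C]
    exact hQ
  have h1 := congrArg (Polynomial.map σ) hC
  have h2 := congrArg (Polynomial.map τ) hC
  rw [Polynomial.map_map, hσ] at h1
  rw [Polynomial.map_map, hτ, h1] at h2
  simp only [Polynomial.map_pow, Polynomial.map_sub, map_X, map_C] at h2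
  have h3 := congrArg (Polynomial.eval (τ x)) h2
  simp only [eval_pow, eval_sub, eval_X, eval_C, sub_self] at h3
  have hm : m ≠ 0 := by
    intro h0
    have := congrArg natDegree hP
    rw [h0, pow_zero, natDegree_one, natDegree_map] at this
    exact (minpoly.natDegree_pos hxi).ne' this
  rw [zero_pow hm] at h3
  exact (sub_eq_zero.1 (eq_zero_of_pow_eq_zero h3)).symm

/-- An automorphism restricted to the integral closure. -/
noncomputable def res {L M : Type u} [Field L] [Field M] [Algebra K L] [Algebra A L]
    [IsScalarTower A K L] [Algebra K M] [Algebra A M] [IsScalarTower A K M] (e : L →ₐ[K] M) :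
    integralClosure A L →+* integralClosure A M where
  toFun x := ⟨e x, IsIntegral.map (e.restrictScalars A) x.2⟩
  map_one' := Subtype.ext (map_one e)
  map_mul' x y := Subtype.ext (map_mul e _ _)
  map_zero' := Subtype.ext (map_zero e)
  map_add' x y := Subtype.ext (map_add e _ _)

omit [IsDomain A] [IsIntegrallyClosed A] [IsFractionRing A K] in
theorem res_apply {L M : Type u} [Field L] [Field M] [Algebra K L] [Algebra A L]
    [IsScalarTower A K L] [Algebra K M] [Algebra A M] [IsScalarTower A K M] (e : L →ₐ[K] M)
    (x : integralClosure A L) : (res (A := A) e x : M) = e x := rfl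

omit [IsDomain A] [IsIntegrallyClosed A] [IsFractionRing A K] in
theorem res_comp_algebraMap {L M : Type u} [Field L] [Field M] [Algebra K L] [Algebra A L]
    [IsScalarTower A K L] [Algebra K M] [Algebra A M] [IsScalarTower A K M] (e : L →ₐ[K] M) :
    (res (A := A) e).comp (algebraMap A (integralClosure A L)) = algebraMap A (integralClosure A M) :=
  RingHom.ext fun a => Subtype.ext ((e.restrictScalars A).commutes a)

/-- Two extensions of `φ` differ by an automorphism. -/
theorem exists_aut [Normal K N] [FiniteDimensional K N]
    (σ τ : integralClosure A N →+* Ω) (hσ : σ.comp (algebraMap A _) = φ)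
    (hτ : τ.comp (algebraMap A _) = φ) :
    ∃ g : N ≃ₐ[K] N, ∀ c, σ c = τ (res (g : N →ₐ[K] N) c) := by
  classical
  by_contra h
  push Not at h
  choose c hc using h
  let G := N ≃ₐ[K] N
  let i := Fintype.equivFin G
  let f : Polynomial (integralClosure A N) := ∑ g : G, monomial (i g : ℕ) (c g)
  let r : G → (integralClosure A N →+* integralClosure A N) := fun g => res (g : N →ₐ[K] N)
  let Q : Polynomial (Polynomial (integralClosure A N)) := ∏ g : G, (X - C (f.map (r g)))
  have hfix : ∀ h : G, Q.map (mapRingHom (r h)) = Q := by
    intro h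
    simp only [Q, Polynomial.map_prod, Polynomial.map_sub, map_X, map_C, coe_mapRingHom,
      Polynomial.map_map]
    exact Fintype.prod_equiv (Equiv.mulLeft h) _ _ fun g => rfl
  have hQ : Q.map (mapRingHom σ) = Q.map (mapRingHom τ) := by
    refine Polynomial.ext fun a => Polynomial.ext fun b => ?_
    simp only [coeff_map, coe_mapRingHom]
    refine eq_of_fixed (K := K) φ _ (fun g => ?_) σ τ hσ hτ
    have := congrArg (fun P : Polynomial (Polynomial (integralClosure A N)) => (P.coeff a).coeff b) (hfix g)
    simp only [coeff_map, coe_mapRingHom] at this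
    exact congrArg Subtype.val this
  have h1 : f.map (r 1) = f := by
    have : r 1 = RingHom.id _ := RingHom.ext fun x => Subtype.ext rfl
    rw [this, Polynomial.map_id]
  have h0 : (Q.map (mapRingHom τ)).eval (f.map σ) = 0 := by
    rw [← hQ, show f.map σ = mapRingHom σ f from rfl, eval_map_apply]
    have : Q.eval f = 0 := by
      simp only [Q, eval_prod, eval_sub, eval_X, eval_C]
      exact Finset.prod_eq_zero (Finset.mem_univ (1 : G)) (by rw [h1, sub_self])
    rw [this, map_zero]
  simp only [Q, Polynomial.map_prod, Polynomial.map_sub, map_X, map_C, coe_mapRingHom,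
    eval_prod, eval_sub, eval_X, eval_C, Finset.prod_eq_zero_iff, sub_eq_zero,
    Polynomial.map_map] at h0
  obtain ⟨g, -, hg⟩ := h0
  have := congrArg (coeff · (i g : ℕ)) hg
  have hf : f.coeff (i g : ℕ) = c g := by
    simp only [f, finsetSum_coeff, coeff_monomial]
    rw [Finset.sum_eq_single g]
    · simp
    · intro g' _ hne
      rw [if_neg fun e => hne (i.injective (Fin.ext e))]
    · simp
  simp only [coeff_map, RingHom.comp_apply, hf] at this
  exact hc g this

variable {L : Type u} [Field L] [Algebra K L] [Algebra A L] [IsScalarTower A K L]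
  [FiniteDimensional K L] [IsAlgClosed Ω]

omit [IsDomain A] [IsIntegrallyClosed A] [IsFractionRing A K] in
theorem injective_res {M : Type u} [Field M] [Algebra K M] [Algebra A M] [IsScalarTower A K M]
    (e : L →ₐ[K] M) : Function.Injective (res (A := A) e) :=
  fun x y h => Subtype.ext (e.injective (congrArg Subtype.val h))

/-- With `n` distinct extensions the trace reduces to their sum. -/
theorem trace_eq_sum (σ : Fin (finrank K L) → (integralClosure A L →+* Ω))
    (hσ : ∀ j, (σ j).comp (algebraMap A _) = φ) (hinj : Function.Injective σ)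
    (x : integralClosure A L) :
    ∃ a : A, algebraMap A K a = Algebra.trace K L (x : L) ∧ φ a = ∑ j, σ j x := by
  classical
  let N : IntermediateField K (AlgebraicClosure K) := IntermediateField.normalClosure K L (AlgebraicClosure K)
  haveI : Normal K N := normalClosure.normal K L (AlgebraicClosure K)
  haveI : FiniteDimensional K N := normalClosure.is_finiteDimensional K L (AlgebraicClosure K)
  haveI : IsScalarTower A K N := IsScalarTower.of_algebraMap_eq fun a => Subtype.ext
    (IsScalarTower.algebraMap_apply A K (AlgebraicClosure K) a)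
  let i0 : L →ₐ[K] AlgebraicClosure K := IsAlgClosed.lift
  let e0 : L →ₐ[K] N := i0.codRestrict N.toSubalgebra
    fun y => i0.fieldRange_le_normalClosure ⟨y, rfl⟩
  haveI : Algebra.IsIntegral A (integralClosure A N) := integralClosure.AlgebraIsIntegral
  obtain ⟨τ, hτ⟩ := exists_extension (R := A) (S := integralClosure A N) (fun a b h => by
    have := congrArg Subtype.val h
    change algebraMap A N a = algebraMap A N b at this
    rw [IsScalarTower.algebraMap_apply A K N, IsScalarTower.algebraMap_apply A K N] at this
    exact IsFractionRing.injective A K ((algebraMap K N).injective this)) φ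
  have hext : ∀ j, ∃ g : N ≃ₐ[K] N, ∀ y, σ j y = τ (res ((g : N →ₐ[K] N).comp e0) y) := by
    intro j
    letI : Algebra (integralClosure A L) (integralClosure A N) := (res (A := A) e0).toAlgebra
    haveI : IsScalarTower A (integralClosure A L) (integralClosure A N) :=
      IsScalarTower.of_algebraMap_eq' (res_comp_algebraMap e0).symm
    haveI : Algebra.IsIntegral (integralClosure A L) (integralClosure A N) :=
      ⟨fun y => (Algebra.IsIntegral.isIntegral (R := A) y).tower_top⟩
    obtain ⟨s, hs⟩ := exists_extension (S := integralClosure A N) (injective_res e0) (σ j)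
    have hsA : s.comp (algebraMap A _) = φ := by
      rw [← hσ j, ← hs, RingHom.comp_assoc]
      exact congrArg s.comp (res_comp_algebraMap e0).symm
    obtain ⟨g, hg⟩ := exists_aut (K := K) (N := N) φ s τ hsA hτ
    refine ⟨g, fun y => ?_⟩
    rw [← hs]
    exact hg (res e0 y)
  choose g hg using hext
  let e : Fin (finrank K L) → (L →ₐ[K] N) := fun j => (g j : N →ₐ[K] N).comp e0
  let E : Fin (finrank K L) → (L →ₐ[K] AlgebraicClosure K) := fun j => N.val.comp (e j)
  have hE : Function.Injective E := by
    intro a b h
    have : e a = e b := AlgHom.ext fun y => Subtype.ext (DFunLike.congr_fun h y)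
    refine hinj (RingHom.ext fun y => ?_)
    rw [hg a, hg b]
    exact congrArg (fun f => τ (res f y)) this
  have hcard : Fintype.card (L →ₐ[K] AlgebraicClosure K) = finrank K L := le_antisymm
    (by
      rw [← Nat.card_eq_fintype_card, ← Field.finSepDegree_eq_of_isAlgClosed K L (AlgebraicClosure K)]
      exact Field.finSepDegree_le_finrank K L)
    (le_of_eq_of_le (Fintype.card_fin _).symm (Fintype.card_le_of_injective E hE))
  haveI : Algebra.IsSeparable K L := by
    rw [← Field.finSepDegree_eq_finrank_iff, Field.finSepDegree_eq_of_isAlgClosed K L (AlgebraicClosure K),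
      Nat.card_eq_fintype_card, hcard]
  have hbij : Function.Bijective E := (Fintype.bijective_iff_injective_and_card E).2
    ⟨hE, by rw [hcard, Fintype.card_fin]⟩
  obtain ⟨a, ha⟩ := IsIntegrallyClosed.isIntegral_iff.1 (Algebra.isIntegral_trace x.2 :
    IsIntegral A (Algebra.trace K L (x : L)))
  refine ⟨a, ha, ?_⟩
  have key : algebraMap A (integralClosure A N) a = ∑ j, res (e j) x := by
    apply Subtype.ext
    apply Subtype.val_injective
    have hsum := trace_eq_sum_embeddings (K := K) (L := L) (AlgebraicClosure K) (x := (x : L))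
    rw [← ha, ← hbij.sum_comp fun s => s (x : L)] at hsum
    simp only [AddSubmonoidClass.coe_finsetSum]
    exact (IsScalarTower.algebraMap_apply A K (AlgebraicClosure K) a).trans hsum
  rw [← hτ, RingHom.comp_apply, key, map_sum]
  exact Finset.sum_congr rfl fun j _ => (hg j x).symm

/-- Elements whose trace discriminant is nonzero at the point. -/
theorem exists_discr (σ : Fin (finrank K L) → (integralClosure A L →+* Ω))
    (hσ : ∀ j, (σ j).comp (algebraMap A _) = φ) (hinj : Function.Injective σ) :
    ∃ (b : Fin (finrank K L) → L) (a : A), (∀ i, IsIntegral A (b i)) ∧ φ a ≠ 0 ∧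
      algebraMap A K a = Algebra.discr K b := by
  classical
  have hli : LinearIndependent Ω fun j => (σ j : integralClosure A L → Ω) :=
    (linearIndependent_monoidHom (integralClosure A L) Ω).comp (fun j => (σ j).toMonoidHom)
      (fun a b h => hinj (RingHom.ext fun y => DFunLike.congr_fun h y))
  have hspan : Submodule.span Ω (Set.range (Function.swap fun j => (σ j : integralClosure A L → Ω))) = ⊤ :=
    span_flip_eq_top_iff_linearIndependent.2 hli
  obtain ⟨s, hs, hsspan, hsli⟩ := exists_linearIndependent Ω
    (Set.range (Function.swap fun j => (σ j : integralClosure A L → Ω)))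
  rw [hspan] at hsspan
  let B0 := Basis.mk hsli (by rw [Subtype.range_coe]; exact hsspan.ge)
  let eq := B0.indexEquiv (Pi.basisFun Ω (Fin (finrank K L)))
  let v := B0.reindex eq
  have hv : ∀ i, v i ∈ Set.range (Function.swap fun j => (σ j : integralClosure A L → Ω)) := fun i => by
    rw [Basis.reindex_apply, Basis.mk_apply]
    exact hs (eq.symm i).2
  choose y hy using hv
  choose a ha hφa using fun i k => trace_eq_sum φ σ hσ hinj (y i * y k)
  refine ⟨fun i => (y i : L), Matrix.det (Matrix.of a), fun i => (y i).2, ?_, ?_⟩
  · have hM : (Matrix.of a).map φ = Matrix.of (fun i j => σ j (y i)) *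
        (Matrix.of (fun i j => σ j (y i))).transpose := by
      ext i k
      simp [Matrix.mul_apply, hφa]
    have hu : IsUnit (Matrix.of (fun i j => σ j (y i))).det := by
      rw [← Matrix.isUnit_iff_isUnit_det, ← Matrix.linearIndependent_rows_iff_isUnit]
      have : (Matrix.of (fun i j => σ j (y i))).row = v := funext fun i => hy i
      rw [this]
      exact v.linearIndependent
    rw [RingHom.map_det, RingHom.mapMatrix_apply, hM, Matrix.det_mul, Matrix.det_transpose]
    exact mul_ne_zero hu.ne_zero hu.ne_zero
  · rw [Algebra.discr_def, RingHom.map_det]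
    congr 1
    ext i k
    simpa [Algebra.traceMatrix_apply, Algebra.traceForm_apply] using ha i k

omit [IsDomain A] [FiniteDimensional K L] in
/-- If the discriminant is a unit, the integral closure is finite etale. -/
theorem finite_etale [IsDomain A] {ι : Type} [Fintype ι] [DecidableEq ι] (b : ι → L)
    (hcard : Fintype.card ι = finrank K L) [FiniteDimensional K L]
    (hb : ∀ i, IsIntegral A (b i)) (a : A) (hu : IsUnit a)
    (ha : algebraMap A K a = Algebra.discr K b) :
    Module.Finite A (integralClosure A L) ∧ Algebra.Etale A (integralClosure A L) := by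
  classical
  have hli : LinearIndependent K b := by
    by_contra h
    exact ((hu.map (algebraMap A K)).ne_zero) (ha.trans (Algebra.discr_zero_of_not_linearIndependent K h))
  rcases isEmpty_or_nonempty ι with hι | hι
  · exact absurd hcard (by rw [Fintype.card_eq_zero]; exact (finrank_pos (R := K) (M := L)).ne)
  let bK : Basis ι K L := basisOfLinearIndependentOfCardEqFinrank hli hcard
  have hbK : ∀ i, bK i = b i := fun i => by simp [bK]
  choose M hM using fun i k => IsIntegrallyClosed.isIntegral_iff.1
    (Algebra.isIntegral_trace ((hb i).mul (hb k)) : IsIntegral A (Algebra.trace K L (b i * b k)))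
  let Mm := Matrix.of M
  have hMm : Mm.map (algebraMap A K) = Algebra.traceMatrix K b := by
    ext i k; simp [Mm, hM, Algebra.traceMatrix_apply, Algebra.traceForm_apply]
  have hdet : IsUnit Mm.det := by
    have : Mm.det = a := IsFractionRing.injective A K (by
      rw [RingHom.map_det, RingHom.mapMatrix_apply, hMm, ha, Algebra.discr_def])
    rwa [this]
  have hcoord : ∀ (x : L) (hx : IsIntegral A x), ∀ i, ∃ c : A, algebraMap A K c = bK.repr x i := by
    intro x hx
    choose t ht using fun k => IsIntegrallyClosed.isIntegral_iff.1
      (Algebra.isIntegral_trace (hx.mul (hb k)) : IsIntegral A (Algebra.trace K L (x * b k)))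
    have hlin : Matrix.mulVec (Mm.map (algebraMap A K)) (bK.repr x) = fun k => algebraMap A K (t k) := by
      funext k
      rw [hMm, ht]
      conv_rhs => rw [← bK.sum_repr x, Finset.sum_mul, map_sum]
      refine Finset.sum_congr rfl fun i _ => ?_
      rw [hbK, smul_mul_assoc, map_smul, smul_eq_mul]
      show Algebra.traceMatrix K b k i * bK.repr x i = _
      rw [Algebra.traceMatrix_apply, Algebra.traceForm_apply, mul_comm (b i) (b k)]
      exact mul_comm _ _
    intro i
    refine ⟨(Mm⁻¹).mulVec t i, ?_⟩
    have h2 : Mm.map (algebraMap A K) * (Mm⁻¹).map (algebraMap A K) = 1 := by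
      rw [← Matrix.map_mul, Matrix.mul_nonsing_inv _ hdet, Matrix.map_one _ (map_zero _) (map_one _)]
    have h3 : (Mm⁻¹).map (algebraMap A K) * Mm.map (algebraMap A K) = 1 := mul_eq_one_comm.1 h2
    have := congrArg (Matrix.mulVec ((Mm⁻¹).map (algebraMap A K))) hlin
    rw [Matrix.mulVec_mulVec, h3, Matrix.one_mulVec] at this
    rw [this, RingHom.map_mulVec]
    rfl
  let bB : ι → integralClosure A L := fun i => ⟨b i, hb i⟩
  have hliA : LinearIndependent A bB := by
    refine LinearIndependent.of_comp (integralClosure A L).val.toLinearMap ?_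
    exact LinearIndependent.restrict_scalars (R := A) (fun r s h => IsFractionRing.injective A K (by
      simpa [Algebra.smul_def] using h)) hli
  have hspan : ⊤ ≤ Submodule.span A (Set.range bB) := by
    intro x _
    choose c hc using hcoord x x.2
    rw [Submodule.mem_span_range_iff_exists_fun]
    refine ⟨c, Subtype.ext ?_⟩
    simp only [AddSubmonoidClass.coe_finsetSum, SetLike.val_smul, bB]
    conv_rhs => rw [← bK.sum_repr x]
    exact Finset.sum_congr rfl fun i _ => by rw [← hc, hbK, algebraMap_smul]
  let B := Basis.mk hliA hspan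
  have hB : ∀ i, (B i : L) = b i := fun i => by simp [B, bB]
  haveI := Module.Finite.of_basis B
  haveI := Module.Free.of_basis B
  refine ⟨inferInstance, DiscEtale.etale_of_isUnit_discr B ?_⟩
  have hrepr : ∀ (z : integralClosure A L) i, algebraMap A K (B.repr z i) = bK.repr (z : L) i := by
    intro z i
    have hz : (z : L) = ∑ j, algebraMap A K (B.repr z j) • bK j := by
      conv_lhs => rw [← B.sum_repr z]
      simp only [AddSubmonoidClass.coe_finsetSum, SetLike.val_smul, hB, hbK, algebraMap_smul]
    rw [hz, bK.repr_sum_self]
  have htr : ∀ z : integralClosure A L,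
      algebraMap A K (Algebra.trace A (integralClosure A L) z) = Algebra.trace K L (z : L) := by
    intro z
    rw [Algebra.trace_eq_matrix_trace B, Algebra.trace_eq_matrix_trace bK, Matrix.trace, Matrix.trace,
      map_sum]
    refine Finset.sum_congr rfl fun i _ => ?_
    simp only [Matrix.diag_apply, Algebra.leftMulMatrix_eq_repr_mul, hrepr, MulMemClass.coe_mul, hB,
      hbK]
  have hd : Algebra.discr A B = a := IsFractionRing.injective A K (by
    rw [Algebra.discr_def, RingHom.map_det, ha, Algebra.discr_def]
    congr 1
    ext i k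
    simp only [RingHom.mapMatrix_apply, Matrix.map_apply, Algebra.traceMatrix_apply,
      Algebra.traceForm_apply, htr, MulMemClass.coe_mul, hB])
  rwa [hd]

end Groth.Agent.H80.PointCount
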