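import Groth.Agent.H80.PointCount.Algebra
import Groth.Agent.Lib.Normalization.InFieldGeneric
import Groth.Agent.Lib.FEt.NormalCover
import Mathlib.AlgebraicGeometry.Morphisms.Etale

/-!
Finite etaleness of a normalization near a point with enough geometric points in the fibre.
-/

universe u

open CategoryTheory CategoryTheory.Limits AlgebraicGeometry
open Groth.Agent.Lib.Normalization

noncomputable section

namespace Groth.Agent.H80.PointCount

section Eval

variable {Y : Scheme.{u}} {Ω : Type u} [Field Ω] {V : Y.Opens} (hV : IsAffineOpen V)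
  (η : Spec (CommRingCat.of Ω) ⟶ Y) (hη : Set.range η.base ⊆ (V : Set Y))

/-- Evaluation of sections at a field valued point. -/
def evalPt : Γ(Y, V) →+* Ω :=
  (Spec.preimage (IsOpenImmersion.lift hV.fromSpec η (by rw [hV.range_fromSpec]; exact hη))).hom

theorem evalPt_spec :
    Spec.map (CommRingCat.ofHom (evalPt hV η hη)) ≫ hV.fromSpec = η := by
  rw [evalPt, CommRingCat.ofHom_hom, Spec.map_preimage, IsOpenImmersion.lift_fac]

theorem evalPt_ne_zero_iff (a : Γ(Y, V)) (p : Spec (CommRingCat.of Ω)) :
    evalPt hV η hη a ≠ 0 ↔ η.base p ∈ Y.basicOpen a := by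
  have h := congrArg (fun m => m.base p) (evalPt_spec hV η hη)
  simp only [Scheme.Hom.comp_apply] at h
  rw [← h]
  show _ ↔ Spec.map (CommRingCat.ofHom (evalPt hV η hη)) p ∈ hV.fromSpec ⁻¹ᵁ Y.basicOpen a
  rw [hV.fromSpec_preimage_basicOpen]
  show _ ↔ evalPt hV η hη a ∉ p.asIdeal
  haveI := p.2
  rw [(Ideal.eq_bot_or_top p.asIdeal).resolve_right Ideal.IsPrime.ne_top', Ideal.mem_bot]

end Eval

theorem appTop_restrict {Y X : Scheme.{u}} (f : Y ⟶ X) (W : X.Opens)
    (P : ∀ {R S : Type u} [CommRing R] [CommRing S], (R →+* S) → Prop) (h : P (f.app W).hom) :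
    P (f ∣_ W).appTop.hom := by
  have aux : ∀ (U' : X.Opens) (V' : Y.Opens) (e : V' ≤ f ⁻¹ᵁ U'), U' = W → V' = f ⁻¹ᵁ W →
      P (f.appLE U' V' e).hom := by
    rintro U' V' e rfl rfl
    rwa [← Scheme.Hom.app_eq_appLE]
  rw [show (f ∣_ W).appTop = (f ∣_ W).app ⊤ from rfl, morphismRestrict_app']
  exact aux _ _ _ (Scheme.Opens.ι_image_top W) (Scheme.Opens.ι_image_top (f ⁻¹ᵁ W))

variable {X : Scheme.{u}} [IsIntegral X]

theorem result_aux (hX : Pi1.IsNormalScheme X) (L : Type u) [Field L]
    [Algebra X.functionField L] [FiniteDimensional X.functionField L]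
    (g : Spec (CommRingCat.of L) ⟶ X)
    (hg : g = Spec.map (CommRingCat.ofHom (algebraMap X.functionField L)) ≫
      X.fromSpecStalk (genericPoint X))
    [QuasiCompact g] [QuasiSeparated g]
    (Ω : Type u) [Field Ω] [IsAlgClosed Ω] (ξ : Spec (CommRingCat.of Ω) ⟶ X)
    (pts : Fin (Module.finrank X.functionField L) ↪
      {η : Spec (CommRingCat.of Ω) ⟶ g.normalization // η ≫ g.fromNormalization = ξ}) :
    ∃ U : X.Opens, Set.range ξ.base ⊆ (U : Set X) ∧
      Etale (pullback.snd g.fromNormalization U.ι) ∧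
      IsFinite (pullback.snd g.fromNormalization U.ι) := by
  classical
  obtain ⟨_, ⟨U₀, hU₀, rfl⟩, hxU, -⟩ := X.isBasis_affineOpens.exists_subset_of_mem_open
    (Set.mem_univ (ξ.base default)) isOpen_univ
  replace hU₀ : IsAffineOpen U₀ := hU₀
  have hrange : Set.range ξ.base ⊆ (U₀ : Set X) := by
    rintro _ ⟨p, rfl⟩
    rwa [Subsingleton.elim p default]
  haveI : Nonempty U₀ := ⟨⟨_, hxU⟩⟩
  let φ := algebraMap X.functionField L
  letI := InField.algebraK φ U₀
  haveI : IsScalarTower Γ(X, U₀) X.functionField L := IsScalarTower.of_algebraMap_eq' rfl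
  haveI := functionField_isFractionRing_of_isAffineOpen X U₀ hU₀
  haveI : IsIntegrallyClosed Γ(X, U₀) := Groth.Agent.Lib.FEt.NormalCover.isIntegrallyClosed_sections hX (U := U₀)
  let V₀ := g.fromNormalization ⁻¹ᵁ U₀
  have hV₀ : IsAffineOpen V₀ := hU₀.preimage _
  let e := InField.sectionsEquiv φ g hg hU₀
  have hmem : ∀ j, Set.range (pts j).1.base ⊆ (V₀ : Set g.normalization) := by
    rintro j _ ⟨p, rfl⟩
    show g.fromNormalization.base ((pts j).1.base p) ∈ U₀
    rw [← Scheme.Hom.comp_apply, (pts j).2]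
    exact hrange ⟨p, rfl⟩
  let σ : Fin (Module.finrank X.functionField L) → (integralClosure Γ(X, U₀) L →+* Ω) :=
    fun j => (evalPt hV₀ (pts j).1 (hmem j)).comp e.symm.toRingHom
  have hcompat : ∀ j, (σ j).comp (algebraMap Γ(X, U₀) _) = evalPt hU₀ ξ hrange := by
    intro j
    have h1 : (evalPt hV₀ (pts j).1 (hmem j)).comp (g.fromNormalization.app U₀).hom =
        evalPt hU₀ ξ hrange := by
      have : CommRingCat.ofHom ((evalPt hV₀ (pts j).1 (hmem j)).comp (g.fromNormalization.app U₀).hom) =
          CommRingCat.ofHom (evalPt hU₀ ξ hrange) := by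
        apply Spec.map_injective
        rw [← cancel_mono hU₀.fromSpec, evalPt_spec, CommRingCat.ofHom_comp, Spec.map_comp,
          CommRingCat.ofHom_hom, Scheme.Hom.app_eq_appLE, Category.assoc,
          IsAffineOpen.SpecMap_appLE_fromSpec _ hU₀ hV₀, ← Category.assoc, evalPt_spec, (pts j).2]
      exact congrArg CommRingCat.Hom.hom this
    refine RingHom.ext fun a => ?_
    rw [← h1]
    simp only [σ, RingHom.comp_apply]
    congr 1
    apply e.injective
    show e (e.symm _) = e _
    rw [RingEquiv.apply_symm_apply]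
    exact (InField.sectionsEquiv_app φ g hg hU₀ a).symm
  have hinj : Function.Injective σ := by
    intro a b h
    refine pts.injective (Subtype.ext ?_)
    have : evalPt hV₀ (pts a).1 (hmem a) = evalPt hV₀ (pts b).1 (hmem b) := RingHom.ext fun y => by
      have h' := DFunLike.congr_fun h (e y)
      simpa [σ] using h'
    rw [← evalPt_spec hV₀ (pts a).1 (hmem a), ← evalPt_spec hV₀ (pts b).1 (hmem b), this]
  obtain ⟨b, a, hb, ha0, ha⟩ := exists_discr (K := X.functionField) (evalPt hU₀ ξ hrange) σ hcompat hinj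
  have hxW : ξ.base default ∈ X.basicOpen a := (evalPt_ne_zero_iff hU₀ ξ hrange a default).1 ha0
  refine ⟨X.basicOpen a, ?_, ?_⟩
  · rintro _ ⟨p, rfl⟩
    rwa [Subsingleton.elim p default]
  let W := X.basicOpen a
  have hW : IsAffineOpen W := hU₀.basicOpen a
  haveI : Nonempty W := ⟨⟨_, hxW⟩⟩
  let a' : Γ(X, W) := X.presheaf.map (homOfLE (X.basicOpen_le a)).op a
  have ha' : X.germToFunctionField W a' = X.germToFunctionField U₀ a :=
    TopCat.Presheaf.germ_res_apply _ _ _ _ _
  have hu : IsUnit a' := RingedSpace.isUnit_res_basicOpen _ a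
  letI := InField.algebraK φ W
  haveI : IsScalarTower Γ(X, W) X.functionField L := IsScalarTower.of_algebraMap_eq' rfl
  haveI := functionField_isFractionRing_of_isAffineOpen X W hW
  haveI : IsIntegrallyClosed Γ(X, W) := Groth.Agent.Lib.FEt.NormalCover.isIntegrallyClosed_sections hX (U := W)
  have hbW : ∀ i, IsIntegral Γ(X, W) (b i) := fun i => by
    obtain ⟨p, hp, hp0⟩ := hb i
    refine ⟨p.map (X.presheaf.map (homOfLE (X.basicOpen_le a)).op).hom, hp.map _, ?_⟩
    rw [Polynomial.eval₂_map]
    convert hp0 using 2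
    refine RingHom.ext fun c => ?_
    show φ (X.germToFunctionField W _) = φ (X.germToFunctionField U₀ c)
    exact congrArg φ (TopCat.Presheaf.germ_res_apply _ _ _ _ _)
  obtain ⟨hfin, het⟩ := finite_etale (K := X.functionField) (A := Γ(X, W)) b (Fintype.card_fin _) hbW a'
    hu (ha'.trans ha)
  let eW := InField.sectionsEquiv φ g hg hW
  have happ : (g.fromNormalization.app W).hom = eW.symm.toRingHom.comp
      (algebraMap Γ(X, W) (integralClosure Γ(X, W) L)) := by
    ext c
    apply eW.injective
    show _ = eW (eW.symm _)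
    rw [RingEquiv.apply_symm_apply]
    exact InField.sectionsEquiv_app φ g hg hW c
  haveI : IsAffine (W : Scheme.{u}) := hW
  haveI : IsAffine (g.fromNormalization ⁻¹ᵁ W : Scheme.{u}) := hW.preimage g.fromNormalization
  have hf : (g.fromNormalization.app W).hom.Finite := by
    rw [happ]
    exact (RingHom.Finite.of_surjective _ eW.symm.surjective).comp (RingHom.finite_algebraMap.2 hfin)
  have he : (g.fromNormalization.app W).hom.Etale := by
    rw [happ]
    exact RingHom.Etale.respectsIso.1 _ eW.symm (RingHom.etale_algebraMap.2 het)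
  let iso := (pullbackRestrictIsoRestrict g.fromNormalization W)
  have hsnd : iso.inv ≫ pullback.snd g.fromNormalization W.ι = g.fromNormalization ∣_ W := rfl
  have hdec : pullback.snd g.fromNormalization W.ι = iso.hom ≫ (g.fromNormalization ∣_ W) := by
    rw [← hsnd, Iso.hom_inv_id_assoc]
  haveI : Etale (g.fromNormalization ∣_ W) := by
    rw [HasRingHomProperty.iff_of_isAffine (P := @Etale)]
    exact appTop_restrict g.fromNormalization W (fun {_ _} _ _ r => r.Etale) he
  haveI : IsIntegralHom (g.fromNormalization ∣_ W) :=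
    MorphismProperty.of_isPullback (P := @IsIntegralHom)
      (isPullback_morphismRestrict g.fromNormalization W).flip inferInstance
  haveI : LocallyOfFinitePresentation (g.fromNormalization ∣_ W) := inferInstance
  haveI : IsFinite (g.fromNormalization ∣_ W) :=
    (IsFinite.iff_isIntegralHom_and_locallyOfFiniteType _).2 ⟨inferInstance, inferInstance⟩
  exact ⟨hdec ▸ inferInstance, hdec ▸ inferInstance⟩

end Groth.Agent.H80.PointCount
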